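import Mathlib
import Groth.Agent.Misc8.ValRingFP

/-!
# Flat finite type algebras over valuation rings with reduced closed fibre

`RedAt q I` says that `I` is radical after localising at the prime `q`.  For a valuation ring `A`, a flat
finite type algebra `P` and a prime `q` over the maximal ideal, radicality of `m P` at `q` implies that
of `p P` for every prime `p` of `A`.
-/

set_option autoImplicit false

open IsLocalRing

namespace Groth.Agent.ValReduced

universe u

/-- The ideal `I` becomes radical after localising at the prime `q`. -/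
def RedAt {P : Type u} [CommRing P] (q I : Ideal P) : Prop :=
  ∀ (s : P) (n : ℕ), (∃ w ∉ q, w * s ^ n ∈ I) → ∃ w ∉ q, w * s ∈ I

variable {A : Type u} [CommRing A] [IsDomain A] [ValuationRing A]
  {P : Type u} [CommRing P] [Algebra A P] [Algebra.FiniteType A P] [Module.Flat A P]

/-- Reduced closed fibre at `q` gives a reduced local ring at `q`. -/
theorem redAt_bot (q : Ideal P) [q.IsPrime] (hq : q.comap (algebraMap A P) = maximalIdeal A)
    (h : RedAt q ((maximalIdeal A).map (algebraMap A P))) : RedAt q (⊥ : Ideal P) := by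
  let S := Localization.AtPrime q
  haveI : IsLocalHom (algebraMap A S) := ⟨fun a ha => by
    by_contra hu
    have h1 : algebraMap A P a ∈ q := by
      rw [← Ideal.mem_comap, hq]; exact (mem_maximalIdeal a).mpr hu
    rw [IsScalarTower.algebraMap_apply A P S] at ha
    exact (IsLocalization.AtPrime.isUnit_to_map_iff S q _).mp ha h1⟩
  haveI : Module.Flat A S := Module.Flat.trans A P S
  have htfS : ∀ (a : A) (x : S), a ≠ 0 → a • x = 0 → x = 0 := fun a x ha hax =>
    (Module.Flat.isSMulRegular_of_nonZeroDivisors (mem_nonZeroDivisors_of_ne_zero ha))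
      (hax.trans (smul_zero a).symm)
  let N : Ideal S := nilradical S
  have hsat : ∀ (a : A) (x : S), a ≠ 0 → a • x ∈ N → x ∈ N := fun a x ha hax => by
    obtain ⟨n, hn⟩ := mem_nilradical.mp hax
    rw [smul_pow] at hn
    exact mem_nilradical.mpr ⟨n, htfS _ _ (pow_ne_zero n ha) hn⟩
  haveI : Module.FinitePresentation S (S ⧸ N) :=
    Groth.Misc8.ValFP.finitePresentation_of_torsionFree q (S ⧸ N) fun a x ha hax => by
      obtain ⟨x, rfl⟩ := Ideal.Quotient.mk_surjective x
      rw [Ideal.Quotient.eq_zero_iff_mem]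
      refine hsat a x ha ?_
      rw [← Ideal.Quotient.eq_zero_iff_mem, Algebra.smul_def, map_mul]
      rw [Algebra.smul_def] at hax
      exact hax
  have hNfg : Submodule.FG N := by
    have := Module.FinitePresentation.fg_ker (Submodule.mkQ N) N.mkQ_surjective
    rwa [Submodule.ker_mkQ] at this
  let m : Ideal S := (maximalIdeal A).map (algebraMap A S)
  have hm : ∀ x ∈ m, ∃ a ∈ maximalIdeal A, ∃ y, x = algebraMap A S a * y := by
    intro x hx
    induction hx using Submodule.span_induction with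
    | mem x hx => obtain ⟨a, ha, rfl⟩ := hx; exact ⟨a, ha, 1, (mul_one _).symm⟩
    | zero => exact ⟨0, zero_mem _, 0, by simp⟩
    | add x y _ _ hx hy =>
      obtain ⟨a, ha, x, rfl⟩ := hx
      obtain ⟨b, hb, y, rfl⟩ := hy
      rcases ValuationRing.dvd_total a b with ⟨d, rfl⟩ | ⟨d, rfl⟩
      · exact ⟨a, ha, x + algebraMap A S d * y, by rw [map_mul]; ring⟩
      · exact ⟨b, hb, algebraMap A S d * x + y, by rw [map_mul]; ring⟩
    | smul r x _ hx =>
      obtain ⟨a, ha, x, rfl⟩ := hx
      exact ⟨a, ha, r * x, by rw [smul_eq_mul]; ring⟩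
  have hNm : ∀ x ∈ N, x ∈ m := by
    intro x hx
    obtain ⟨n, hn⟩ := mem_nilradical.mp hx
    obtain ⟨s, t, rfl⟩ := IsLocalization.exists_mk'_eq q.primeCompl x
    rw [← IsLocalization.mk'_pow, IsLocalization.mk'_eq_zero_iff] at hn
    obtain ⟨w, hw⟩ := hn
    obtain ⟨w', hw', hmem⟩ := h s n ⟨w, w.2, by rw [hw]; exact zero_mem _⟩
    rw [show m = ((maximalIdeal A).map (algebraMap A P)).map (algebraMap P S) by
      rw [Ideal.map_map, ← IsScalarTower.algebraMap_eq]]
    rw [IsLocalization.mk'_mem_iff]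
    have h2 := Ideal.mem_map_of_mem (algebraMap P S) hmem
    rw [map_mul] at h2
    exact (Ideal.unit_mul_mem_iff_mem _ (IsLocalization.map_units S (⟨w', hw'⟩ : q.primeCompl))).mp h2
  have hle : N ≤ m • N := by
    intro x hx
    obtain ⟨a, ha, y, rfl⟩ := hm x (hNm x hx)
    rcases eq_or_ne a 0 with rfl | ha0
    · simp
    · exact Submodule.smul_mem_smul (Ideal.mem_map_of_mem _ ha)
        (hsat a y ha0 (by rwa [Algebra.smul_def]))
  have hN : N = ⊥ := by
    refine Submodule.eq_bot_of_le_smul_of_le_jacobson_bot m N hNfg hle ?_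
    rw [IsLocalRing.jacobson_eq_maximalIdeal _ bot_ne_top, Ideal.map_le_iff_le_comap]
    exact fun a ha hu => ha (IsUnit.of_map (algebraMap A S) a hu)
  intro s n hs
  obtain ⟨w, hw, hws⟩ := hs
  have : algebraMap P S s ∈ N := mem_nilradical.mpr ⟨n, by
    rw [← map_pow, IsLocalization.map_eq_zero_iff q.primeCompl]
    exact ⟨⟨w, hw⟩, hws⟩⟩
  rw [hN, Ideal.mem_bot, IsLocalization.map_eq_zero_iff q.primeCompl] at this
  obtain ⟨⟨w', hw'⟩, hw's⟩ := this
  exact ⟨w', hw', hw's⟩

/-- Reduced closed fibre at `q` gives reduced fibres at `q` over every prime of `A`. -/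
theorem redAt_prime (q : Ideal P) [q.IsPrime] (hq : q.comap (algebraMap A P) = maximalIdeal A)
    (h : RedAt q ((maximalIdeal A).map (algebraMap A P))) (p : Ideal A) [p.IsPrime] :
    RedAt q (p.map (algebraMap A P)) := by
  let J : Ideal P := p.map (algebraMap A P)
  have hJ : J = p.map (algebraMap A P) := rfl
  let π := Ideal.Quotient.mk J
  haveI : Nontrivial (A ⧸ p) := Ideal.Quotient.nontrivial_iff.mpr ‹p.IsPrime›.ne_top
  haveI : ValuationRing (A ⧸ p) := Function.Surjective.valuationRing (Ideal.Quotient.mk p) Ideal.Quotient.mk_surjective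
  haveI : Algebra.FiniteType A (P ⧸ J) :=
    Algebra.FiniteType.of_surjective (Ideal.Quotient.mkₐ A J) Ideal.Quotient.mk_surjective
  haveI : Algebra.FiniteType (A ⧸ p) (P ⧸ J) := Algebra.FiniteType.of_restrictScalars_finiteType A _ _
  haveI : Module.Flat (A ⧸ p) (P ⧸ J) :=
    Module.Flat.of_linearEquiv (Algebra.TensorProduct.quotIdealMapEquivQuotTensor P p).toLinearEquiv
  have hJq : J ≤ q := by
    rw [hJ, Ideal.map_le_iff_le_comap, hq]
    exact le_maximalIdeal ‹p.IsPrime›.ne_top
  have hker : RingHom.ker π ≤ q := by rw [Ideal.mk_ker]; exact hJq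
  haveI : (q.map π).IsPrime := Ideal.map_isPrime_of_surjective Ideal.Quotient.mk_surjective hker
  have hmem : ∀ x, π x ∈ q.map π ↔ x ∈ q := fun x => by
    rw [← Ideal.mem_comap, Ideal.comap_map_of_surjective' π Ideal.Quotient.mk_surjective,
      sup_eq_left.mpr hker]
  have hmax : ((maximalIdeal (A ⧸ p)).map (algebraMap (A ⧸ p) (P ⧸ J))) =
      ((maximalIdeal A).map (algebraMap A P)).map π := by
    have : maximalIdeal (A ⧸ p) = (maximalIdeal A).map (Ideal.Quotient.mk p) :=
      by
        haveI : IsLocalHom (Ideal.Quotient.mk p) := IsLocalHom.of_surjective _ Ideal.Quotient.mk_surjective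
        refine le_antisymm (fun a ha => ?_) (Ideal.map_le_iff_le_comap.mpr fun a ha => ?_)
        · obtain ⟨a, rfl⟩ := Ideal.Quotient.mk_surjective a
          exact Ideal.mem_map_of_mem _ ((mem_maximalIdeal a).mpr fun hu =>
            (mem_maximalIdeal _).mp ha (hu.map _))
        · exact (mem_maximalIdeal _).mpr fun hu => (mem_maximalIdeal a).mp ha (IsUnit.of_map _ a hu)
    rw [this, Ideal.map_map, Ideal.map_map]
    rfl
  have hq' : (q.map π).comap (algebraMap (A ⧸ p) (P ⧸ J)) = maximalIdeal (A ⧸ p) := by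
    ext a
    obtain ⟨a, rfl⟩ := Ideal.Quotient.mk_surjective a
    rw [Ideal.mem_comap]
    change π (algebraMap A P a) ∈ q.map π ↔ _
    rw [hmem, ← Ideal.mem_comap, hq, mem_maximalIdeal, mem_maximalIdeal]
    haveI : IsLocalHom (Ideal.Quotient.mk p) := IsLocalHom.of_surjective _ Ideal.Quotient.mk_surjective
    exact (isUnit_map_iff (Ideal.Quotient.mk p) a).not.symm
  have hJm : J ≤ (maximalIdeal A).map (algebraMap A P) :=
    Ideal.map_mono (le_maximalIdeal ‹p.IsPrime›.ne_top)
  have h' : RedAt (q.map π) ((maximalIdeal (A ⧸ p)).map (algebraMap (A ⧸ p) (P ⧸ J))) := by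
    intro s n hs
    obtain ⟨w, hw, hws⟩ := hs
    obtain ⟨s, rfl⟩ := Ideal.Quotient.mk_surjective s
    obtain ⟨w, rfl⟩ := Ideal.Quotient.mk_surjective w
    rw [hmax, ← map_pow, ← map_mul, ← Ideal.mem_comap,
      Ideal.comap_map_of_surjective' π Ideal.Quotient.mk_surjective, Ideal.mk_ker,
      sup_eq_left.mpr hJm] at hws
    obtain ⟨w', hw', hmem'⟩ := h s n ⟨w, fun hh => hw ((hmem w).mpr hh), hws⟩
    refine ⟨π w', fun hh => hw' ((hmem w').mp hh), ?_⟩
    rw [hmax, ← map_mul]
    exact Ideal.mem_map_of_mem _ hmem'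
  intro s n hs
  obtain ⟨w, hw, hws⟩ := hs
  obtain ⟨w', hw', hw's⟩ := redAt_bot (A := A ⧸ p) (q.map π) hq' h' (π s) n
    ⟨π w, fun hh => hw ((hmem w).mp hh), by
      rw [Ideal.mem_bot, ← map_pow, ← map_mul, Ideal.Quotient.eq_zero_iff_mem]; exact hws⟩
  obtain ⟨w', rfl⟩ := Ideal.Quotient.mk_surjective w'
  refine ⟨w', fun hh => hw' ((hmem w').mpr hh), ?_⟩
  rwa [Ideal.mem_bot, ← map_mul, Ideal.Quotient.eq_zero_iff_mem] at hw's

end Groth.Agent.ValReduced
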