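import Mathlib
import Groth.Agent.S9501
import Groth.Agent.ValReduced.Core

/-!
# Flat proper schemes over valuation rings with reduced closed fibre

Every stalk is reduced, as is every stalk of every fibre.
-/

set_option autoImplicit false

universe u

open CategoryTheory AlgebraicGeometry TopologicalSpace IsLocalRing

namespace Groth.Agent.ValReduced

/-- Radicality at a prime read in the localisation. -/
theorem redAt_iff {P S : Type u} [CommRing P] [CommRing S] [Algebra P S] (q : Ideal P) [q.IsPrime]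
    [IsLocalization.AtPrime S q] (I : Ideal P) :
    (I.map (algebraMap P S)).IsRadical ↔ RedAt q I := by
  have hmem : ∀ s : P, algebraMap P S s ∈ I.map (algebraMap P S) ↔ ∃ w ∉ q, w * s ∈ I := fun s => by
    rw [IsLocalization.algebraMap_mem_map_algebraMap_iff q.primeCompl S]
    exact ⟨fun ⟨w, hw, h⟩ => ⟨w, hw, h⟩, fun ⟨w, hw, h⟩ => ⟨w, hw, h⟩⟩
  constructor
  · rintro h s n hs
    rw [← hmem] at hs ⊢
    rw [map_pow] at hs
    exact h ⟨n, hs⟩
  · rintro h x ⟨n, hn⟩
    obtain ⟨s, t, rfl⟩ := IsLocalization.exists_mk'_eq q.primeCompl x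
    rw [← IsLocalization.mk'_pow, IsLocalization.mk'_mem_iff, hmem] at hn
    rw [IsLocalization.mk'_mem_iff, hmem]
    exact h s n hn

theorem redAt_of_le {P : Type u} [CommRing P] {q q₀ I : Ideal P} [q.IsPrime] [q₀.IsPrime] (hle : q ≤ q₀)
    (h : RedAt q₀ I) : RedAt q I := by
  intro s n hs
  obtain ⟨w, hw, hws⟩ := hs
  obtain ⟨w', hw', hmem⟩ := h (w * s) (n + 1) ⟨1, q₀.one_notMem, by
    rw [one_mul, show (w * s) ^ (n + 1) = w ^ n * s * (w * s ^ n) by ring]
    exact I.mul_mem_left _ hws⟩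
  refine ⟨w' * w, fun hh => ?_, by rw [mul_assoc]; exact hmem⟩
  rcases ‹q.IsPrime›.mem_or_mem hh with h1 | h1
  · exact hw' (hle h1)
  · exact hw h1

variable {X Y : Scheme.{u}} (f : X ⟶ Y) {U : Y.Opens} (hU : IsAffineOpen U) {V : X.Opens}
  (hV : IsAffineOpen V) (e : V ≤ f ⁻¹ᵁ U)

/-- The ideal of the fibre in the stalk. -/
theorem map_maximalIdeal_stalk (x : X) (hx : x ∈ V) :
    (maximalIdeal (Y.presheaf.stalk (f.base x))).map (f.stalkMap x).hom =
      ((hU.primeIdealOf ⟨f.base x, e hx⟩).asIdeal.map (f.appLE U V e).hom).map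
        (X.presheaf.germ V x hx).hom := by
  letI := (Y.presheaf.germ U (f.base x) (e hx)).hom.toAlgebra
  haveI : IsLocalization.AtPrime (Y.presheaf.stalk (f.base x))
      (hU.primeIdealOf ⟨f.base x, e hx⟩).asIdeal := hU.isLocalization_stalk ⟨f.base x, e hx⟩
  rw [← IsLocalization.AtPrime.map_eq_maximalIdeal (hU.primeIdealOf ⟨f.base x, e hx⟩).asIdeal
    (Y.presheaf.stalk (f.base x)), Ideal.map_map, Ideal.map_map]
  congr 1
  ext a
  change f.stalkMap x (Y.presheaf.germ U (f.base x) (e hx) a) = X.presheaf.germ V x hx (f.appLE U V e a)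
  rw [Scheme.Hom.germ_stalkMap_apply, Scheme.Hom.appLE, CommRingCat.comp_apply,
    TopCat.Presheaf.germ_res_apply]

include hV in
theorem isReduced_fiber_stalk_iff (y : Y) (z : ↥(f.fiber y)) (x : X) (hx : x ∈ V)
    (hz : (f.fiberι y).base z = x) :
    _root_.IsReduced ((f.fiber y).presheaf.stalk z) ↔
      RedAt (hV.primeIdealOf ⟨x, hx⟩).asIdeal
        ((hU.primeIdealOf ⟨f.base x, e hx⟩).asIdeal.map (f.appLE U V e).hom) := by
  subst hz
  obtain ⟨hs, hk⟩ := Groth.Agent.S9501.result f y z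
  have h1 : _root_.IsReduced ((f.fiber y).presheaf.stalk z) ↔
      (RingHom.ker ((f.fiberι y).stalkMap z).hom).IsRadical := by
    rw [Ideal.isRadical_iff_quotient_reduced]
    exact ⟨fun h => isReduced_of_injective _ (RingHom.quotientKerEquivOfSurjective hs).injective,
      fun h => isReduced_of_injective _ (RingHom.quotientKerEquivOfSurjective hs).symm.injective⟩
  rw [h1, hk, map_maximalIdeal_stalk f hU e _ hx]
  letI := (X.presheaf.germ V ((f.fiberι y).base z) hx).hom.toAlgebra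
  haveI : IsLocalization.AtPrime (X.presheaf.stalk ((f.fiberι y).base z))
      (hV.primeIdealOf ⟨(f.fiberι y).base z, hx⟩).asIdeal := hV.isLocalization_stalk ⟨_, hx⟩
  exact redAt_iff (S := X.presheaf.stalk ((f.fiberι y).base z)) _ _

/-- All stalks of `X` and of its fibres are reduced. -/
theorem isReduced_of_reduced_closedFibre [IsAffine Y] [IsDomain Γ(Y, ⊤)] [ValuationRing Γ(Y, ⊤)]
    [IsProper f] [Flat f] (c : Y) (hc : ((isAffineOpen_top Y).primeIdealOf ⟨c, trivial⟩).asIdeal.IsMaximal)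
    (hred : AlgebraicGeometry.IsReduced (f.fiber c)) :
    AlgebraicGeometry.IsReduced X ∧ ∀ s : Y, AlgebraicGeometry.IsReduced (f.fiber s) := by
  have main : ∀ (x : X), ∃ (V : X.Opens) (hV : IsAffineOpen V) (hx : x ∈ V),
      ∀ (p : Ideal Γ(Y, ⊤)), p.IsPrime → RedAt (hV.primeIdealOf ⟨x, hx⟩).asIdeal
        (p.map (f.appLE ⊤ V le_top).hom) := by
    intro x
    have hcl : IsClosed (f.base '' closure {x}) := f.isClosedMap _ isClosed_closure
    have hsp : f.base x ⤳ c := by
      rw [← show (isAffineOpen_top Y).fromSpec ((isAffineOpen_top Y).primeIdealOf ⟨c, trivial⟩) = c from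
          (isAffineOpen_top Y).fromSpec_primeIdealOf ⟨c, trivial⟩,
        ← show (isAffineOpen_top Y).fromSpec ((isAffineOpen_top Y).primeIdealOf ⟨f.base x, trivial⟩) =
          f.base x from (isAffineOpen_top Y).fromSpec_primeIdealOf ⟨f.base x, trivial⟩]
      refine ((PrimeSpectrum.le_iff_specializes _ _).mp ?_).map (Scheme.Hom.continuous _)
      show ((isAffineOpen_top Y).primeIdealOf ⟨f.base x, trivial⟩).asIdeal ≤ _
      rw [IsLocalRing.eq_maximalIdeal hc]
      exact le_maximalIdeal (Ideal.IsPrime.ne_top inferInstance)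
    obtain ⟨x₀, hx₀, hx₀c⟩ := hsp.mem_closed hcl ⟨x, subset_closure rfl, rfl⟩
    subst hx₀c
    have hxx₀ : x ⤳ x₀ := specializes_iff_mem_closure.mpr hx₀
    obtain ⟨V, hV, hx₀V, -⟩ := exists_isAffineOpen_mem_and_subset (X := X) (x := x₀) (U := ⊤) trivial
    have hxV : x ∈ V := hxx₀.mem_open V.2 hx₀V
    refine ⟨V, hV, hxV, fun p hp => ?_⟩
    letI : Algebra Γ(Y, ⊤) Γ(X, V) := (f.appLE ⊤ V le_top).hom.toAlgebra
    haveI : Algebra.FiniteType Γ(Y, ⊤) Γ(X, V) :=
      LocallyOfFiniteType.finiteType_appLE f (isAffineOpen_top Y) hV le_top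
    haveI : Module.Flat Γ(Y, ⊤) Γ(X, V) := Flat.flat_appLE f (isAffineOpen_top Y) hV le_top
    have hmax := IsLocalRing.eq_maximalIdeal hc
    have h₀ := (isReduced_fiber_stalk_iff f (isAffineOpen_top Y) hV le_top _ (f.asFiber x₀) x₀ hx₀V
      (f.fiberι_asFiber x₀)).mp inferInstance
    rw [hmax] at h₀
    have hcomap : (hV.primeIdealOf ⟨x₀, hx₀V⟩).asIdeal.comap (algebraMap Γ(Y, ⊤) Γ(X, V)) =
        maximalIdeal Γ(Y, ⊤) := by
      have := congrArg PrimeSpectrum.asIdeal
        (IsAffineOpen.comap_primeIdealOf_appLE (f := f) ⊤ (isAffineOpen_top Y) V hV le_top hx₀V)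
      exact this.trans hmax
    refine redAt_of_le ?_ (redAt_prime _ hcomap h₀ p)
    intro a ha
    by_contra ha'
    letI := (X.presheaf.germ V x hxV).hom.toAlgebra
    haveI : IsLocalization.AtPrime (X.presheaf.stalk x) (hV.primeIdealOf ⟨x, hxV⟩).asIdeal :=
      hV.isLocalization_stalk ⟨x, hxV⟩
    letI := (X.presheaf.germ V x₀ hx₀V).hom.toAlgebra
    haveI : IsLocalization.AtPrime (X.presheaf.stalk x₀) (hV.primeIdealOf ⟨x₀, hx₀V⟩).asIdeal :=
      hV.isLocalization_stalk ⟨x₀, hx₀V⟩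
    have h1 : IsUnit (X.presheaf.germ V x₀ hx₀V a) :=
      (IsLocalization.AtPrime.isUnit_to_map_iff (X.presheaf.stalk x₀) _ a).mpr ha'
    have h2 : x ∈ X.basicOpen a :=
      hxx₀.mem_open (X.basicOpen a).2 ((Scheme.mem_basicOpen X a x₀ hx₀V).mpr h1)
    exact (IsLocalization.AtPrime.isUnit_to_map_iff (X.presheaf.stalk x) _ a).mp
      ((Scheme.mem_basicOpen X a x hxV).mp h2) ha
  refine ⟨?_, fun s => ?_⟩
  · haveI : ∀ x : X, _root_.IsReduced (X.presheaf.stalk x) := fun x => by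
      obtain ⟨V, hV, hx, h⟩ := main x
      have h0 := h ⊥ Ideal.isPrime_bot
      rw [Ideal.map_bot] at h0
      letI := (X.presheaf.germ V x hx).hom.toAlgebra
      haveI : IsLocalization.AtPrime (X.presheaf.stalk x) (hV.primeIdealOf ⟨x, hx⟩).asIdeal :=
        hV.isLocalization_stalk ⟨x, hx⟩
      have h1 := (redAt_iff (S := X.presheaf.stalk x) (hV.primeIdealOf ⟨x, hx⟩).asIdeal ⊥).mpr h0
      rw [Ideal.map_bot] at h1
      exact ⟨fun a ha => h1 (Ideal.mem_radical_iff.mpr (by obtain ⟨n, hn⟩ := ha; exact ⟨n, by rw [Ideal.mem_bot, hn]⟩))⟩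
    exact isReduced_of_isReduced_stalk X
  · haveI : ∀ z : ↥(f.fiber s), _root_.IsReduced ((f.fiber s).presheaf.stalk z) := fun z => by
      generalize hx : (f.fiberι s).base z = x
      have hs : f.base x = s := by
        have : (f.fiberι s).base z ∈ f.base ⁻¹' {s} := f.range_fiberι s ▸ ⟨z, rfl⟩
        rw [← hx]; exact this
      subst hs
      obtain ⟨V, hV, hxV, h⟩ := main x
      exact (isReduced_fiber_stalk_iff f (isAffineOpen_top Y) hV le_top _ z x hxV hx).mpr
        (h _ inferInstance)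
    exact isReduced_of_isReduced_stalk _

end Groth.Agent.ValReduced
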